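import Cfsg.Agent.H167.KKL.Sgn
import Cfsg.Agent.H129.TorusUntw

/-!
# S4546: no configuration in `E₈(q)`, `q` odd: assembly
-/

set_option autoImplicit false
set_option linter.unusedSectionVars false

namespace Cfsg.Agent.H167.KKL

open CoxeterSystem Cfsg Cfsg.Lie Cfsg.Lie.ChevalleyDatum
open Cfsg.Agent.ChevalleyStructure Cfsg.Agent.ChevalleyStructure.Elts Cfsg.Agent.ChevalleyStructure.CoxeterGeom
  Cfsg.Agent.ChevalleyStructure.CoxeterGeomTypes Cfsg.Agent.ChevalleyStructure.NPerm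
open Cfsg.Agent.Tits.Roots Cfsg.Agent.Tits.Core Cfsg.Agent.Nodes Cfsg.Agent.Nodes.Reps Cfsg.Agent.Nodes.BNOf
  Cfsg.Agent.Nodes.RGDChev Cfsg.Agent.Nodes.Bruhat Cfsg.Agent.Nodes.NormalForm
open Cfsg.Agent.KFacts.RgdField Cfsg.Agent.KFacts.RgdChevCoord Cfsg.Agent.GpExc.Field
open Cfsg.Agent.BpExc Cfsg.Agent.BpExc.TorCent Cfsg.Agent.BpExc.TorChev Cfsg.Agent.BpExc.Tow
  Cfsg.Agent.BpExc.TowChev
open Cfsg.Agent.H613.KKL

/-- the boxes of the row `E₈(q)` -/
structure BoxE8 (hp : IsType chevE8 8 CoxeterMatrix.E₈) (p : ℕ) [Fact p.Prime] (F : Type) [Field F] [Fintype F]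
    (k : Type) [Field k] [IsAlgClosed k] [Algebra F k] [CharP k p] (hk : LocFin k) : Prop where
  p3 : ∀ {w : CoxeterMatrix.E₈.Group}, Res hp.isCartan w → ∀ (f g : (Fin 8 → ℤ) →+ ZMod 2),
    (∀ x, f (wv hp.isCartan w x) = f x) → (∀ x, g (wv hp.isCartan w x) = g x) →
    (∀ b, rt' hp.isCartan b → wv hp.isCartan w b = -b → f b ≠ 0 ∨ g b ≠ 0) →
    w = 1 ∨ ∀ j, wv hp.isCartan w (sr j) = sr j + d4 j
  p4 : ∀ {w : CoxeterMatrix.E₈.Group} {n : ↥(chevE8.group k)},
    Rp CoxeterMatrix.E₈.toCoxeterSystem (tow hp CoxeterMatrix.E₈.toCoxeterSystem hk p).nsys w n →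
    (∀ j, wv hp.isCartan w (sr j) = sr j + d4 j) → ∀ {z z' : ↥(chevE8.group k)}, z ∈ TT chevE8 k → z' ∈ TT chevE8 k →
    z * z = 1 → z' * z' = 1 →
    (∀ b, rt' hp.isCartan b → wv hp.isCartan w b = b → ch hp b z ≠ 1 ∨ ch hp b z' ≠ 1) →
    trL chevE8 n + trL chevE8 (n * z) + trL chevE8 (n * z') + trL chevE8 (n * (z * z')) = 0
  p4b : ∀ {w : CoxeterMatrix.E₈.Group}, (∀ j, wv hp.isCartan w (sr j) = sr j + d4 j) →
    ∀ {z z' : ↥(chevE8.group k)}, z ∈ TT chevE8 k → z' ∈ TT chevE8 k → z * z = 1 → z' * z' = 1 →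
    (∀ b, rt' hp.isCartan b → wv hp.isCartan w b = -b → ch hp b z ≠ 1 ∨ ch hp b z' ≠ 1) →
    trL chevE8 z = -8 → trL chevE8 z' = -8 → trL chevE8 (z * z') = -8 →
    ∀ b, rt' hp.isCartan b → wv hp.isCartan w b = b → ch hp b z ≠ 1 ∨ ch hp b z' ≠ 1
  p5 : ∀ {D : Subgroup ↥(chevE8.group F)} {x : ↥(chevE8.group F)}, Cfg0 D x →
    (∀ d ∈ D, d ≠ 1 → trL chevE8 (emb hp.inList (algebraMap F k) d) = -8) → ∀ g : ↥(chevE8.group k),
    (∀ d ∈ D, g * emb hp.inList (algebraMap F k) d * g⁻¹ ∈ TT chevE8 k) → False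
  p6a : ∀ {z : ↥(chevE8.group k)}, z ∈ TT chevE8 k → z * z = 1 → z ≠ 1 → trL chevE8 z = 24 ∨ trL chevE8 z = -8
  p6 : ∀ {D : Subgroup ↥(chevE8.group F)} {x : ↥(chevE8.group F)}, Cfg0 D x → ∀ {d : ↥(chevE8.group F)}, d ∈ D →
    d ≠ 1 → trL chevE8 (emb hp.inList (algebraMap F k) d) = 24 → False

/-- a group of order 8 and exponent 2 is generated by three elements -/
theorem exists_gen {G : Type*} [Group G] {D : Subgroup G} (h8 : E8 D) :
    ∃ a ∈ D, ∃ b ∈ D, ∃ c ∈ D, a ≠ 1 ∧ b ≠ 1 ∧ a * b ≠ 1 ∧ c ≠ 1 ∧ c * a ≠ 1 ∧ c * b ≠ 1 ∧ c * (a * b) ≠ 1 ∧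
      ∀ d ∈ D, d ∈ Subgroup.closure {a, b, c} := by
  classical
  have hfin : Finite D := Nat.finite_of_card_ne_zero (by rw [h8.card]; norm_num)
  have hcomm : ∀ a ∈ D, ∀ b ∈ D, a * b = b * a := by
    intro a ha b hb
    have h1 := h8.inv _ (mul_mem ha hb)
    have h2 : a⁻¹ = a := by rw [inv_eq_iff_mul_eq_one]; exact h8.inv a ha
    have h3 : b⁻¹ = b := by rw [inv_eq_iff_mul_eq_one]; exact h8.inv b hb
    calc a * b = (a * b)⁻¹ := by rw [eq_inv_iff_mul_eq_one]; exact h1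
      _ = b * a := by rw [mul_inv_rev, h2, h3]
  have hinv : ∀ a ∈ D, a⁻¹ = a := fun a ha => by rw [inv_eq_iff_mul_eq_one]; exact h8.inv a ha
  -- a subgroup of order < 8 misses an element
  have hmiss : ∀ S : Finset G, S.card < 8 → ∃ d ∈ D, d ∉ S := by
    intro S hS
    by_contra hc
    push Not at hc
    have h1 : Nat.card D ≤ Nat.card (S : Set G) :=
      Nat.card_le_card_of_injective (fun d : D => (⟨d, hc d d.2⟩ : (S : Set G))) fun a b hab =>
        Subtype.ext (congrArg (fun t : (S : Set G) => (t : G)) hab)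
    rw [h8.card] at h1
    have h2 : Nat.card (S : Set G) = S.card := by simp
    omega
  obtain ⟨a, ha, ha1⟩ := hmiss {1} (by simp)
  obtain ⟨b, hb, hb1⟩ := hmiss {1, a} (lt_of_le_of_lt Finset.card_le_two (by norm_num))
  obtain ⟨c, hc, hc1⟩ := hmiss {1, a, b, a * b} (lt_of_le_of_lt Finset.card_le_four (by norm_num))
  simp only [Finset.mem_singleton, Finset.mem_insert, not_or] at ha1 hb1 hc1
  have hab : a * b ≠ 1 := fun h => hb1.2 (by rw [← hinv a ha]; exact eq_inv_of_mul_eq_one_right h)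
  have hca : c * a ≠ 1 := fun h => hc1.2.1 (by rw [← hinv a ha]; exact eq_inv_of_mul_eq_one_left h)
  have hcb : c * b ≠ 1 := fun h => hc1.2.2.1 (by rw [← hinv b hb]; exact eq_inv_of_mul_eq_one_left h)
  have hcab : c * (a * b) ≠ 1 := fun h =>
    hc1.2.2.2 (by rw [← hinv _ (mul_mem ha hb)]; exact eq_inv_of_mul_eq_one_left h)
  refine ⟨a, ha, b, hb, c, hc, ha1, hb1.1, hab, hc1.1, hca, hcb, hcab, ?_⟩
  -- the closure has order 8
  set K := Subgroup.closure ({a, b, c} : Set G) with hK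
  have hKD : K ≤ D := (Subgroup.closure_le _).2 (by
    rintro x (rfl | rfl | rfl)
    exacts [ha, hb, hc])
  have haK : a ∈ K := Subgroup.subset_closure (by simp)
  have hbK : b ∈ K := Subgroup.subset_closure (by simp)
  have hcK : c ∈ K := Subgroup.subset_closure (by simp)
  have hfK : Finite K := Finite.of_injective (Subgroup.inclusion hKD) (Subgroup.inclusion_injective hKD)
  have h5 : 5 ≤ Nat.card K := by
    have h6 : ({1, a, b, a * b, c} : Finset G).card = 5 := by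
      rw [Finset.card_insert_of_notMem, Finset.card_insert_of_notMem, Finset.card_insert_of_notMem,
        Finset.card_insert_of_notMem, Finset.card_singleton]
      · simp only [Finset.mem_singleton]; exact fun h => hc1.2.2.2 h.symm
      · simp only [Finset.mem_insert, Finset.mem_singleton, not_or]
        exact ⟨fun h => ha1 (right_eq_mul.1 h), fun h => hc1.2.2.1 h.symm⟩
      · simp only [Finset.mem_insert, Finset.mem_singleton, not_or]
        exact ⟨fun h => hb1.2 h.symm, fun h => hb1.1 (left_eq_mul.1 h), fun h => hc1.2.1 h.symm⟩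
      · simp only [Finset.mem_insert, Finset.mem_singleton, not_or]
        exact ⟨fun h => ha1 h.symm, fun h => hb1.1 h.symm, fun h => hab h.symm, fun h => hc1.1 h.symm⟩
    have h7 : ((({1, a, b, a * b, c} : Finset G)) : Set G) ⊆ (K : Set G) := by
      intro x hx
      simp only [Finset.coe_insert, Finset.coe_singleton, Set.mem_insert_iff, Set.mem_singleton_iff] at hx
      rcases hx with rfl | rfl | rfl | rfl | rfl
      exacts [one_mem _, haK, hbK, mul_mem haK hbK, hcK]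
    rw [← h6]
    have h8' : Nat.card ((({1, a, b, a * b, c} : Finset G)) : Set G) = ({1, a, b, a * b, c} : Finset G).card := by simp
    rw [← h8']
    exact Nat.card_mono (Set.toFinite (K : Set G)) h7
  have h9 : Nat.card K ∣ 8 := by
    rw [← h8.card]
    exact Subgroup.card_dvd_of_le hKD
  have h10 : Nat.card K = 8 := by
    have := Nat.le_of_dvd (by norm_num) h9
    interval_cases h : Nat.card K <;> omega
  have h11 : K = D := Subgroup.eq_of_le_of_card_ge hKD (by rw [h10, h8.card])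
  intro d hd
  rw [h11]; exact hd

/-- the pair case: no residual `w ≠ 1` -/
theorem not_d4_of_one (hp : IsType chevE8 8 CoxeterMatrix.E₈) {w : CoxeterMatrix.E₈.Group}
    (hw : ∀ j, wv hp.isCartan w (sr j) = sr j + d4 j) (f : (Fin 8 → ℤ) →+ ZMod 2)
    (hf : ∀ b, rt' hp.isCartan b → wv hp.isCartan w b = -b → f b ≠ 0) : False := by
  have h1 : wv hp.isCartan w (sr 1) = -sr 1 := by
    rw [hw]; decide
  have h3 : wv hp.isCartan w (sr 3) = -sr 3 := by
    rw [hw]; decide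
  have hA : cartanOf chevE8 8 1 3 = -1 := by decide +kernel
  have h13 : rt' hp.isCartan (sr 3 + sr 1) := by
    refine ⟨CoxeterMatrix.E₈.toCoxeterSystem.simple 1, 3, ?_⟩
    rw [rep_simple_eq]
    have : pairing (cartanOf chevE8 8) 1 (sr 3) = -1 := by
      rw [← hA]
      unfold pairing
      rw [Finset.sum_eq_single 3]
      · rw [sr_self, mul_one]
      · intro j _ hj
        rw [sr_ne hj, mul_zero]
      · intro hj; exact absurd (Finset.mem_univ _) hj
    rw [this, neg_smul, one_smul, sub_neg_eq_add]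
  have h4 : wv hp.isCartan w (sr 3 + sr 1) = -(sr 3 + sr 1) := by
    have : wv hp.isCartan w (sr 3 + sr 1) = wv hp.isCartan w (sr 3) + wv hp.isCartan w (sr 1) :=
      map_add (rep CoxeterMatrix.E₈.toCoxeterSystem hp.isCartan w) _ _
    rw [this, h1, h3, neg_add]
  have e1 := hf _ (isRoot_sr _ _ 1) h1
  have e3 := hf _ (isRoot_sr _ _ 3) h3
  have e4 := hf _ h13 h4
  rw [map_add] at e4
  have h5 : ∀ x y : ZMod 2, x ≠ 0 → y ≠ 0 → y + x = 0 := by decide
  exact e4 (h5 _ _ e1 e3)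

section Main

variable (hp : IsType chevE8 8 CoxeterMatrix.E₈) (p : ℕ) [Fact p.Prime] {F : Type} [Field F] [Fintype F] [CharP F p]
  {k : Type} [Field k] [IsAlgClosed k] [Algebra F k] [CharP k p] (hk : LocFin k)

/-- a pair of commuting involutions is toral over `k` -/
theorem pair_toral (B : BoxE8 hp p F k hk) (hp2 : p ≠ 2) {a b : ↥(chevE8.group k)} (ha : a * a = 1) (hb : b * b = 1)
    (hab : a * b = b * a) : ∃ g, g * a * g⁻¹ ∈ TT chevE8 k ∧ g * b * g⁻¹ ∈ TT chevE8 k := by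
  have h20 := two_ne (k := k) p hp2
  obtain ⟨g1, h1⟩ := toral_one hp p hk hp2 ha
  obtain ⟨g2, w, n, h2, hn, hnn, e, hres, hb2⟩ := red hp p hk hp2 (Z := {g1 * a * g1⁻¹}) (Set.finite_singleton _)
    (by rintro _ rfl; exact h1) (x := g1 * b * g1⁻¹) (by
      have : g1 * b * g1⁻¹ * (g1 * b * g1⁻¹) = g1 * (b * b) * g1⁻¹ := by group
      rw [this, hb]; group) (by
      rintro _ rfl
      have h3 : g1 * b * g1⁻¹ * (g1 * a * g1⁻¹) = g1 * (b * a) * g1⁻¹ := by group
      have h4 : g1 * a * g1⁻¹ * (g1 * b * g1⁻¹) = g1 * (a * b) * g1⁻¹ := by group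
      rw [h3, h4, hab])
  set z := g2 * (g1 * a * g1⁻¹) * g2⁻¹ with hz
  have hzT : z ∈ TT chevE8 k := h2 _ rfl
  have hzz : z * z = 1 := by
    have : z * z = g2 * g1 * (a * a) * (g2 * g1)⁻¹ := by rw [hz]; group
    rw [this, ha]; group
  have hnz : n * z = z * n := by
    have h3 : n * z = g2 * g1 * (b * a) * (g2 * g1)⁻¹ := by rw [← e, hz]; group
    have h4 : z * n = g2 * g1 * (a * b) * (g2 * g1)⁻¹ := by rw [← e, hz]; group
    rw [h3, h4, hab]
  obtain ⟨f, hf⟩ := exists_sgn hp p hk hzT hzz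
  have hfb : ∀ b, rt' hp.isCartan b → wv hp.isCartan w b = -b → f b ≠ 0 := by
    intro c hc hwc h0
    obtain ⟨_, rfl, h5⟩ := hb2 c hc hwc
    apply h5
    rw [← hz, hf c hc, h0]; rfl
  rcases B.p3 hres f 0 (sgn_eq hp p hk hp2 hn hzT hnz hf) (fun x => rfl) (fun b hb hwb => Or.inl (hfb b hb hwb)) with
    h6 | h6
  · subst h6
    refine ⟨g2 * g1, ?_, ?_⟩
    · have : g2 * g1 * a * (g2 * g1)⁻¹ = z := by rw [hz]; group
      rw [this]; exact hzT
    · have : g2 * g1 * b * (g2 * g1)⁻¹ = n := by rw [← e]; group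
      rw [this]
      have := hn.mem_of_one
      rwa [TL_eq hp hk] at this
  · exact (not_d4_of_one hp h6 f hfb).elim

/-- three commuting involutions all of whose nontrivial products have trace `-8` are toral over `k` -/
theorem triple_toral (B : BoxE8 hp p F k hk) (hp2 : p ≠ 2) {a b c : ↥(chevE8.group k)} (ha : a * a = 1) (hb : b * b = 1)
    (hcc : c * c = 1) (hab : a * b = b * a) (hac : c * a = a * c) (hbc : c * b = b * c)
    (ta : trL chevE8 a = -8) (tb : trL chevE8 b = -8) (tab : trL chevE8 (a * b) = -8) (tc : trL chevE8 c = -8)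
    (tca : trL chevE8 (c * a) = -8) (tcb : trL chevE8 (c * b) = -8) (tcab : trL chevE8 (c * (a * b)) = -8) :
    ∃ g, g * a * g⁻¹ ∈ TT chevE8 k ∧ g * b * g⁻¹ ∈ TT chevE8 k ∧ g * c * g⁻¹ ∈ TT chevE8 k := by
  have h20 := two_ne (k := k) p hp2
  obtain ⟨g1, ha1, hb1⟩ := pair_toral hp p hk B hp2 ha hb hab
  obtain ⟨g2, w, n, h2, hn, hnn, e, hres, hb2⟩ := red hp p hk hp2 (Z := {g1 * a * g1⁻¹, g1 * b * g1⁻¹})
    (Set.toFinite _) (by rintro _ (rfl | rfl); exacts [ha1, hb1]) (x := g1 * c * g1⁻¹) (by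
      have : g1 * c * g1⁻¹ * (g1 * c * g1⁻¹) = g1 * (c * c) * g1⁻¹ := by group
      rw [this, hcc]; group) (by
      rintro _ (rfl | rfl)
      · have h3 : g1 * c * g1⁻¹ * (g1 * a * g1⁻¹) = g1 * (c * a) * g1⁻¹ := by group
        have h4 : g1 * a * g1⁻¹ * (g1 * c * g1⁻¹) = g1 * (a * c) * g1⁻¹ := by group
        rw [h3, h4, hac]
      · have h3 : g1 * c * g1⁻¹ * (g1 * b * g1⁻¹) = g1 * (c * b) * g1⁻¹ := by group
        have h4 : g1 * b * g1⁻¹ * (g1 * c * g1⁻¹) = g1 * (b * c) * g1⁻¹ := by group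
        rw [h3, h4, hbc])
  obtain ⟨g, hg⟩ : ∃ g, g = g2 * g1 := ⟨_, rfl⟩
  have hcj : ∀ y, g2 * (g1 * y * g1⁻¹) * g2⁻¹ = g * y * g⁻¹ := fun y => by rw [hg]; group
  rw [hcj] at e
  have hzT : g * a * g⁻¹ ∈ TT chevE8 k := by rw [← hcj]; exact h2 _ (Or.inl rfl)
  have hzT' : g * b * g⁻¹ ∈ TT chevE8 k := by rw [← hcj]; exact h2 _ (Or.inr rfl)
  have hzz : g * a * g⁻¹ * (g * a * g⁻¹) = 1 := by
    have : g * a * g⁻¹ * (g * a * g⁻¹) = g * (a * a) * g⁻¹ := by group
    rw [this, ha]; group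
  have hzz' : g * b * g⁻¹ * (g * b * g⁻¹) = 1 := by
    have : g * b * g⁻¹ * (g * b * g⁻¹) = g * (b * b) * g⁻¹ := by group
    rw [this, hb]; group
  have hnz : n * (g * a * g⁻¹) = g * a * g⁻¹ * n := by
    have h3 : n * (g * a * g⁻¹) = g * (c * a) * g⁻¹ := by rw [← e]; group
    have h4 : g * a * g⁻¹ * n = g * (a * c) * g⁻¹ := by rw [← e]; group
    rw [h3, h4, hac]
  have hnz' : n * (g * b * g⁻¹) = g * b * g⁻¹ * n := by
    have h3 : n * (g * b * g⁻¹) = g * (c * b) * g⁻¹ := by rw [← e]; group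
    have h4 : g * b * g⁻¹ * n = g * (b * c) * g⁻¹ := by rw [← e]; group
    rw [h3, h4, hbc]
  obtain ⟨f, hf⟩ := exists_sgn hp p hk hzT hzz
  obtain ⟨f', hf'⟩ := exists_sgn hp p hk hzT' hzz'
  have hneg : ∀ b', rt' hp.isCartan b' → wv hp.isCartan w b' = -b' →
      ch hp b' (g * a * g⁻¹) ≠ 1 ∨ ch hp b' (g * b * g⁻¹) ≠ 1 := by
    intro b' hb' hwb
    obtain ⟨y, hy, h5⟩ := hb2 b' hb' hwb
    rcases hy with rfl | rfl
    · rw [hcj] at h5; exact Or.inl h5
    · rw [hcj] at h5; exact Or.inr h5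
  rcases B.p3 hres f f' (sgn_eq hp p hk hp2 hn hzT hnz hf) (sgn_eq hp p hk hp2 hn hzT' hnz' hf') (fun b' hb' hwb => by
      rcases hneg b' hb' hwb with h5 | h5
      · refine Or.inl fun h0 => h5 ?_
        rw [hf b' hb', h0]; rfl
      · refine Or.inr fun h0 => h5 ?_
        rw [hf' b' hb', h0]; rfl) with h6 | h6
  · subst h6
    refine ⟨g, hzT, hzT', ?_⟩
    rw [e]
    have := hn.mem_of_one
    rwa [TL_eq hp hk] at this
  · exfalso
    have htr : ∀ y, trL chevE8 (g * y * g⁻¹) = trL chevE8 y := trL_conj g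
    have e1 : g * a * g⁻¹ * (g * b * g⁻¹) = g * (a * b) * g⁻¹ := by group
    have h7 := B.p4b h6 hzT hzT' hzz hzz' hneg (by rw [htr, ta]) (by rw [htr, tb]) (by rw [e1, htr, tab])
    have h8 := B.p4 hn h6 hzT hzT' hzz hzz' h7
    have e2 : n * (g * a * g⁻¹) = g * (c * a) * g⁻¹ := by rw [← e]; group
    have e3 : n * (g * b * g⁻¹) = g * (c * b) * g⁻¹ := by rw [← e]; group
    have e4 : n * (g * a * g⁻¹ * (g * b * g⁻¹)) = g * (c * (a * b)) * g⁻¹ := by rw [← e]; group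
    rw [e2, e3, e4, ← e, htr, htr, htr, htr, tc, tca, tcb, tcab] at h8
    have h9 : (2 : k) ^ 5 = 0 := by linear_combination -h8
    exact h20 (pow_eq_zero_iff (by norm_num) |>.1 h9)

/-- **no configuration in `E₈(q)`, `q` odd**, from the boxes -/
theorem noCfg_of (B : BoxE8 hp p F k hk) (hp2 : p ≠ 2) : NoCfg ↥(chevE8.group F) := by
  intro D x hc
  have hinj := emb_injective hp.inList (algebraMap F k)
  have htr : ∀ d ∈ D, d ≠ 1 → trL chevE8 (emb hp.inList (algebraMap F k) d) = -8 := by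
    intro d hd hd1
    have h1 : emb hp.inList (algebraMap F k) d * emb hp.inList (algebraMap F k) d = 1 := by
      rw [← map_mul, hc.e8.inv d hd, map_one]
    obtain ⟨g, hg⟩ := toral_one hp p hk hp2 h1
    have h2 := B.p6a hg (by
      have : g * emb hp.inList (algebraMap F k) d * g⁻¹ * (g * emb hp.inList (algebraMap F k) d * g⁻¹) =
        g * (emb hp.inList (algebraMap F k) d * emb hp.inList (algebraMap F k) d) * g⁻¹ := by group
      rw [this, h1]; group) (by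
      intro h3
      apply hd1
      apply hinj
      rw [map_one]
      have : emb hp.inList (algebraMap F k) d = g⁻¹ * (g * emb hp.inList (algebraMap F k) d * g⁻¹) * g := by group
      rw [this, h3]; group)
    rw [trL_conj] at h2
    rcases h2 with h2 | h2
    · exact (B.p6 hc hd hd1 h2).elim
    · exact h2
  obtain ⟨a, ha, b, hb, c, hc', ha1, hb1, hab1, hc1, hca1, hcb1, hcab1, hcl⟩ := exists_gen hc.e8
  have hcm : ∀ a ∈ D, ∀ b ∈ D, a * b = b * a := by
    intro a ha b hb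
    have h2 : a⁻¹ = a := by rw [inv_eq_iff_mul_eq_one]; exact hc.e8.inv a ha
    have h3 : b⁻¹ = b := by rw [inv_eq_iff_mul_eq_one]; exact hc.e8.inv b hb
    calc a * b = (a * b)⁻¹ := by rw [eq_inv_iff_mul_eq_one]; exact hc.e8.inv _ (mul_mem ha hb)
      _ = b * a := by rw [mul_inv_rev, h2, h3]
  set ι := emb hp.inList (algebraMap F k) with hι
  obtain ⟨g, hga, hgb, hgc⟩ := triple_toral hp p hk B hp2 (a := ι a) (b := ι b) (c := ι c)
    (by rw [← map_mul, hc.e8.inv a ha, map_one]) (by rw [← map_mul, hc.e8.inv b hb, map_one])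
    (by rw [← map_mul, hc.e8.inv c hc', map_one]) (by rw [← map_mul, ← map_mul, hcm a ha b hb])
    (by rw [← map_mul, ← map_mul, hcm c hc' a ha]) (by rw [← map_mul, ← map_mul, hcm c hc' b hb])
    (htr a ha ha1) (htr b hb hb1) (by rw [← map_mul]; exact htr _ (mul_mem ha hb) hab1) (htr c hc' hc1)
    (by rw [← map_mul]; exact htr _ (mul_mem hc' ha) hca1) (by rw [← map_mul]; exact htr _ (mul_mem hc' hb) hcb1)
    (by rw [← map_mul, ← map_mul]; exact htr _ (mul_mem hc' (mul_mem ha hb)) hcab1)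
  refine B.p5 hc htr g fun d hd => ?_
  have h1 : D ≤ (TT chevE8 k).comap ((MulAut.conj g).toMonoidHom.comp ι) := by
    intro d hd
    refine (Subgroup.closure_le (K := (TT chevE8 k).comap ((MulAut.conj g).toMonoidHom.comp ι))).2 ?_ (hcl d hd)
    rintro y (rfl | rfl | rfl)
    exacts [hga, hgb, hgc]
  exact h1 hd

end Main

end Cfsg.Agent.H167.KKL
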