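import Cfsg.Agent.BpExc.TowChev
import Cfsg.Agent.H613.KKL.Defs

/-!
# S4546, row `E₈(q)`, `q` odd (leader helper167): definitions shared by the boxes

`D.group k`, `k` algebraically closed and locally finite; plan: `outputs/live/tools/plans/S4546_E8.lean.txt`.
-/

set_option autoImplicit false

namespace Cfsg.Agent.H167.KKL

open CoxeterSystem Cfsg Cfsg.Lie Cfsg.Lie.ChevalleyDatum
open Cfsg.Agent.ChevalleyStructure Cfsg.Agent.ChevalleyStructure.Elts Cfsg.Agent.ChevalleyStructure.CoxeterGeom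
  Cfsg.Agent.ChevalleyStructure.CoxeterGeomTypes Cfsg.Agent.ChevalleyStructure.NPerm
open Cfsg.Agent.Tits.Roots Cfsg.Agent.Tits.Core Cfsg.Agent.Nodes Cfsg.Agent.Nodes.Reps Cfsg.Agent.Nodes.BNOf
  Cfsg.Agent.Nodes.RGDChev Cfsg.Agent.Nodes.Bruhat Cfsg.Agent.Nodes.NormalForm
open Cfsg.Agent.KFacts.RgdField Cfsg.Agent.KFacts.RgdChevCoord

universe u v

section W

variable {l : ℕ} {M : CoxeterMatrix (Fin l)} {A : Fin l → Fin l → ℤ}

/-- the action of the Weyl group on `ℤ^l` -/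
noncomputable abbrev wv (h : IsCartan M A) (w : M.Group) (x : Fin l → ℤ) : Fin l → ℤ := rep M.toCoxeterSystem h w x

/-- `b` is a root -/
abbrev rt' (h : IsCartan M A) (b : Fin l → ℤ) : Prop := IsRoot M.toCoxeterSystem h b

/-- residual involution of the Weyl group: `w = w_J`, `w = -1` on `J` -/
structure Res (h : IsCartan M A) (w : M.Group) : Prop where
  sq : w * w = 1
  neg : ∀ i, wv h w (sr i) ≤ 0 → wv h w (sr i) = -sr i

end W

/-- `w_{D4}`: the node `j` goes to `sr j + d4 j` -/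
def d4 : Fin 8 → Fin 8 → ℤ := ![![0, 1, 2, 2, 1, 0, 0, 0], ![0, -2, 0, 0, 0, 0, 0, 0], ![0, 0, -2, 0, 0, 0, 0, 0],
  ![0, 0, 0, -2, 0, 0, 0, 0], ![0, 0, 0, 0, -2, 0, 0, 0], ![0, 1, 1, 2, 2, 0, 0, 0], 0, 0]

/-- the trace on the Lie algebra -/
noncomputable def trL (D : ChevalleyDatum) {k : Type u} [Field k] (x : ↥(D.group k)) : k :=
  Matrix.trace ((x : GL D.Idx k) : Matrix D.Idx D.Idx k)

end Cfsg.Agent.H167.KKL
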