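import Cfsg.Agent.H167.KKL.AsmE8
import Cfsg.Agent.H387.KKL.P3
import Cfsg.Agent.H387.KKL.P4b
import Cfsg.Agent.H348.KKL.PSixA
import Cfsg.Agent.H348.KKL.PSix
import Cfsg.Agent.H582.KKL.TraceN
import Cfsg.Agent.H749.KKL.P5
import Cfsg.Agent.H392.KKL.X2a

/-!
# S4546: no configuration in `E₈(q)`, `q` odd
-/

set_option autoImplicit false

namespace Cfsg.Agent.H167.KKL

open CoxeterSystem Cfsg Cfsg.Lie Cfsg.Lie.ChevalleyDatum
open Cfsg.Agent.ChevalleyStructure Cfsg.Agent.ChevalleyStructure.Elts Cfsg.Agent.ChevalleyStructure.CoxeterGeom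
  Cfsg.Agent.ChevalleyStructure.CoxeterGeomTypes Cfsg.Agent.ChevalleyStructure.NPerm
open Cfsg.Agent.BpExc.TowChev Cfsg.Agent.H613.KKL

theorem noCfg_E8 {F : Type} [Field F] [Fintype F] {p : ℕ} [Fact p.Prime] [CharP F p] (hp2 : p ≠ 2) :
    NoCfg ↥(chevE8.group F) := by
  obtain ⟨r, n, hr, hrF, hrk, he, hqF, hk⟩ := Cfsg.Agent.H129.TorusUntw.exists_closure (F := F) rfl
  have hrp : p = r := CharP.eq F ‹_› hrF
  subst hrp
  have hodd : Odd (Fintype.card F) := by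
    obtain ⟨n', -, hn'⟩ := FiniteField.card F p
    rw [hn']
    exact ((Fact.out : p.Prime).odd_of_ne_two hp2).pow
  have h2F : (2 : F) ≠ 0 := by
    intro h
    have h1 : ((2 : ℕ) : F) = 0 := by exact_mod_cast h
    rw [CharP.cast_eq_zero_iff F p] at h1
    exact hp2 ((Nat.prime_dvd_prime_iff_eq (Fact.out : p.Prime) Nat.prime_two).1 h1)
  obtain ⟨J, -, hJ1, hJ2⟩ := Cfsg.Agent.H392.KKL.x2a_E8 (F := F) h2F
  exact noCfg_of Nodes.KindE.isType8 p hk {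
    p3 := fun hw f g hf hg hb => Cfsg.Agent.H387.KKL.P3 Nodes.KindE.isType8 hw f g hf hg hb
    p4 := fun {_ _} hn hw {_ _} hz hz' h1 h2 hno =>
      Cfsg.Agent.H582.KKL.P4 Nodes.KindE.isType8 p hk hp2 hn hw hz hz' h1 h2 hno
    p4b := fun hw => Cfsg.Agent.H387.KKL.P4b Nodes.KindE.isType8 p hp2 hw
    p5 := fun hD htr g hg => Cfsg.Agent.H749.KKL.P5 Nodes.KindE.isType8 p hk hp2 hD htr g hg
    p6a := fun hz h1 hz1 => Cfsg.Agent.H348.KKL.E8R.P6a Nodes.KindE.isType8 hz h1 hz1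
    p6 := fun {_ _} hD {_} hd hd1 h => Cfsg.Agent.H348.KKL.E8R.P6 Nodes.KindE.isType8 hodd _ hD ⟨J, hJ1, hJ2⟩
      (Cfsg.Agent.H392.KKL.rho chevE8 F) (fun _ ht => Cfsg.Agent.H392.KKL.dim_E8 h2F ht) hd hd1 h } hp2

end Cfsg.Agent.H167.KKL
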