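import Cfsg.Agent.H167.KKL.DefsE8
import Cfsg.Agent.H557.ToralMain
import Cfsg.Agent.H795.SetCent

/-!
# S4546: an involution centralising a finite subset `Z` of the torus

`k` algebraically closed and locally finite, of odd characteristic.

* `exists_conj_NZ` : an involution `t` of a group with root group data is conjugate, by an element commuting with
  `Z ≤ T`, to an involution over `w`;
* `step_simple`, `step_root` : if `w b = -b` and `b(Z) = 1` then it is conjugate to an involution over `s_b w`;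
* `red` : **the reduction** to a residual element.
-/

set_option autoImplicit false
set_option linter.unusedSectionVars false

namespace Cfsg.Agent.H167.KKL

open CoxeterSystem Cfsg Cfsg.Lie Cfsg.Lie.ChevalleyDatum
open Cfsg.Agent.ChevalleyStructure Cfsg.Agent.ChevalleyStructure.Elts Cfsg.Agent.ChevalleyStructure.CoxeterGeom
  Cfsg.Agent.ChevalleyStructure.CoxeterGeomTypes Cfsg.Agent.ChevalleyStructure.NPerm
open Cfsg.Agent.Tits.Roots Cfsg.Agent.Tits.Core Cfsg.Agent.Tits.Exchange Cfsg.Agent.Tits.RootComb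
open Cfsg.Agent.Nodes Cfsg.Agent.Nodes.Reps Cfsg.Agent.Nodes.BNOf
  Cfsg.Agent.Nodes.RGDChev Cfsg.Agent.Nodes.Bruhat Cfsg.Agent.Nodes.NormalForm Cfsg.Agent.Nodes.StabComb
  Cfsg.Agent.Nodes.OppDec Cfsg.Agent.Nodes.LeviDec Cfsg.Agent.Nodes.Comb
open Cfsg.Agent.KFacts.RgdField Cfsg.Agent.KFacts.RgdChevCoord
open Cfsg.Agent.BpExc Cfsg.Agent.BpExc.TorCent Cfsg.Agent.BpExc.TorChev Cfsg.Agent.BpExc.Tow
  Cfsg.Agent.BpExc.TowChev Cfsg.Agent.OddHalf.NI.ModelChev
open Cfsg.Agent.H557.SLTwist Cfsg.Agent.H557.InvForm Cfsg.Agent.H557.Toral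
open Cfsg.Agent.FixBN.FieldRGD (uu vv dd ww)
open scoped MatrixGroups

universe u v

/-! ### the level -/

section Lvl

variable {I W Y : Type*} [Fintype I] [DecidableEq I] [Group W] [Group Y] {M : CoxeterMatrix I}
  {cs : CoxeterSystem M W} {A : I → I → ℤ} {h : IsCartan M A} {p : ℕ} {T : Subgroup Y} {n : I → Y}
  {X : (I → ℤ) → Subgroup Y}

variable (R : RGD cs h p T n X)

include R

theorem exists_conj_NZ [Finite W] (hp2 : Odd p) {w : W} {t : Y} (ht : Cell R.nsys cs h X w t) (h2 : t * t = 1)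
    {Z : Set Y} (hZ : Z ⊆ T) (hZc : ∀ z ∈ Z, t * z = z * t) :
    ∃ g k, Rp cs R.nsys w k ∧ k * k = 1 ∧ (∀ z ∈ Z, g * z = z * g) ∧ g * t * g⁻¹ = k := by
  have hww : w = w⁻¹ := by
    have h1 := ht.inv
    rw [inv_eq_of_mul_eq_one_left h2] at h1
    exact Cell.unique R ht h1
  obtain ⟨u, hu, k, hk, v, hv, rfl⟩ := exists_normal_form R ht
  have hZu : ∀ z ∈ Z, u * z = z * u ∧ v * z = z * v := by
    intro z hz
    obtain ⟨h1, -, h3⟩ := conj_form' R (hZ hz) (hZ hz) hu hk hv (hZc z hz)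
    exact ⟨h1.symm, h3.symm⟩
  have hv' : v ∈ RGD.Sup X (RGD.Pos cs h) :=
    RGD.Sup_mono (S := NW cs h w) (S' := RGD.Pos cs h) (fun x hx => ⟨hx.1, hx.2.1⟩) hv
  obtain ⟨a, ha⟩ : ∃ a, a = v * u := ⟨_, rfl⟩
  have haU : a ∈ RGD.Sup X (RGD.Pos cs h) := by rw [ha]; exact mul_mem hv' hu
  have e1 : a * k * (a * k) = 1 := by
    have : a * k * (a * k) = v * (u * k * v * (u * k * v)) * v⁻¹ := by rw [ha]; group
    rw [this, h2]; group
  have hkT : k * k ∈ T := by
    have h1 := hk.mul hk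
    rw [show w * w = 1 by nth_rewrite 2 [hww]; exact mul_inv_cancel w] at h1
    exact h1.mem_of_one
  obtain ⟨b, hb, c, hc, hbc⟩ := exists_PW_NW R w haU
  have e2 : k * a * k⁻¹ = a⁻¹ * (k * k)⁻¹ := by
    have : k * a * k⁻¹ = a⁻¹ * (a * k * (a * k)) * (k * k)⁻¹ := by group
    rw [this, e1, mul_one]
  have hkb : k * b * k⁻¹ ∈ RGD.Sup X (RGD.Pos cs h) :=
    conj_mem_Sup R hk (S' := RGD.Pos cs h) (fun x hx => hx.1) (fun x hx => ⟨hx.1.act _, hx.2.2⟩) hb
  have hkc : k * c * k⁻¹ ∈ UN cs h X :=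
    conj_mem_Sup R hk (S' := Neg cs h) (fun x hx => hx.1) (fun x hx => ⟨hx.1.act _, hx.2.2⟩) hc
  have e3 : k * c * k⁻¹ = (k * b * k⁻¹)⁻¹ * (a⁻¹ * (k * k)⁻¹) := by
    rw [← e2, hbc]; group
  have hkc' : k * c * k⁻¹ ∈ RGD.B cs h T X := by
    rw [e3]
    exact mul_mem (inv_mem (RGD.U_le_B hkb)) (mul_mem (inv_mem (RGD.U_le_B haU)) (RGD.T_le_B (inv_mem hkT)))
  have e4 := eq_one_of_mem_UN_of_mem_B R hkc hkc'
  have hc1 : c = 1 := by
    have : c = k⁻¹ * (k * c * k⁻¹) * k := by group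
    rw [this, e4]; group
  rw [hc1, mul_one] at hbc
  subst hbc
  have h5 : (k * k)⁻¹ ∈ RGD.Sup X (RGD.Pos cs h) ⊓ T := by
    refine Subgroup.mem_inf.2 ⟨?_, inv_mem hkT⟩
    have : (k * k)⁻¹ = a * (k * a * k⁻¹) := by rw [e2]; group
    rw [this]
    exact mul_mem haU hkb
  rw [U_inf_T R, Subgroup.mem_bot] at h5
  have hkk : k * k = 1 := by rwa [inv_eq_one] at h5
  rw [h5, mul_one] at e2
  -- the square root
  have hodd : Odd (orderOf a) := by
    obtain ⟨m, hm⟩ := R.isPGroup_Upos ⟨a, haU⟩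
    have h6 : a ^ p ^ m = 1 := congrArg Subtype.val hm
    exact Odd.of_dvd_nat (hp2.pow) (orderOf_dvd_of_pow_eq_one h6)
  obtain ⟨m, hm⟩ := exists_sqrt hodd
  refine ⟨(a ^ m)⁻¹ * v, k, hk, hkk, fun z hz => ?_, ?_⟩
  · obtain ⟨h7, h8⟩ := hZu z hz
    have h9 : Commute a z := by
      rw [ha]
      exact Commute.mul_left h8 h7
    exact ((h9.pow_left m).inv_left).mul_left h8
  have e6 : k * a ^ m * k⁻¹ = (a ^ m)⁻¹ := by
    have h7 : k * a ^ m * k⁻¹ = (k * a * k⁻¹) ^ m := conj_pow.symm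
    rw [h7, e2, inv_pow]
  have e7 : (a ^ m)⁻¹ * v * (u * k * v) * ((a ^ m)⁻¹ * v)⁻¹ = (a ^ m)⁻¹ * (v * u) * (k * a ^ m * k⁻¹) * k := by
    group
  rw [e7, e6, ← ha]
  nth_rewrite 2 [← hm]
  group

end Lvl

/-! ### the matrix conjugating `theta` -/

section SLm

variable {k : Type u} [Field k]

theorem exists_anti (h2 : (2 : k) ≠ 0) {c y : k} (hc : c ≠ 0) (hy : c = y ^ 2) (hy0 : y ≠ 0) :
    ∃ P : SL(2, k), P * (theta c hc P)⁻¹ = ww y⁻¹ (inv_ne_zero hy0) := by
  have hdet : (1 : k) * 2⁻¹ - y⁻¹ * (-y / 2) = 1 := by field_simp; norm_num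
  obtain ⟨P, hP⟩ : ∃ P : SL(2, k), P.1 = !![1, y⁻¹; -y / 2, 2⁻¹] :=
    ⟨⟨!![1, y⁻¹; -y / 2, 2⁻¹], by rw [Matrix.det_fin_two_of]; exact hdet⟩, rfl⟩
  refine ⟨P, mul_inv_eq_of_eq_mul (Subtype.ext ?_)⟩
  have h3 : (theta c hc P).1 = !![P.1 1 1, P.1 1 0 / c; c * P.1 0 1, P.1 0 0] := rfl
  have h4 : (ww y⁻¹ (inv_ne_zero hy0) : SL(2, k)).1 = !![0, y⁻¹; -(y⁻¹)⁻¹, 0] := rfl
  have h5 : (ww y⁻¹ (inv_ne_zero hy0) * theta c hc P).1 =
    (ww y⁻¹ (inv_ne_zero hy0) : SL(2, k)).1 * (theta c hc P).1 := rfl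
  rw [h5, h3, h4, hP, Matrix.mul_fin_two]
  subst hy
  ext i j
  fin_cases i <;> fin_cases j <;> simp <;> field_simp

end SLm

section K

variable {D : ChevalleyDatum} {l : ℕ} {M : CoxeterMatrix (Fin l)} (hp : IsType D l M) {k : Type u} [Field k]
  (p : ℕ) [Fact p.Prime] [CharP k p] (hk : LocFin k)

include hk p in
theorem exists_NZ (hp2 : Odd p) {Z : Set ↥(D.group k)} (hZf : Z.Finite) (hZ : Z ⊆ TT D k) {x : ↥(D.group k)}
    (hx : x * x = 1) (hc : ∀ z ∈ Z, x * z = z * x) :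
    ∃ (g : ↥(D.group k)) (w : M.Group) (n : ↥(D.group k)), (∀ z ∈ Z, g * z = z * g) ∧
      Rp M.toCoxeterSystem (tow hp M.toCoxeterSystem hk p).nsys w n ∧ n * n = 1 ∧ g * x * g⁻¹ = n := by
  set H := tow hp M.toCoxeterSystem hk p with hH
  have hfW : Finite M.Group := finite_W hp M.toCoxeterSystem
  have := hZf.to_subtype
  obtain ⟨E1, h1⟩ := H.exists_level (S := fun j => (Tj hp j : Set ↥(D.group k))) (fun _ _ hab => H.monoT hab)
    (f := fun z : Z => (z : ↥(D.group k))) (fun z => H.mem_TL.1 (by rw [TL_eq hp hk]; exact hZ z.2))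
  obtain ⟨E2, h2⟩ := H.mem_GG.1 (show x ∈ GG M.toCoxeterSystem hp.isCartan (TL (Tj hp (k := k))) (XL (Xj hp)) by
    rw [GG_eq_top hp _ hk]; exact Subgroup.mem_top x)
  obtain ⟨E, h3, h4⟩ := H.dir E1 E2
  obtain ⟨w, hw⟩ := (mem_GG (H.rgd E)).1 (H.mono_GG h4 h2)
  obtain ⟨g, n, hn, hnn, hgz, hg⟩ := exists_conj_NZ (H.rgd E) hp2 hw hx (Z := Z)
    (fun z hz => H.monoT h3 (h1 ⟨z, hz⟩)) hc
  exact ⟨g, w, n, hgz, H.rp_up hn, hnn, hg⟩

include hk p in
/-- the element of the torus with `α_i(z) = 1` commutes with the rank one group of the node `i` -/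
theorem comm_sl {z : ↥(D.group k)} (hz : z ∈ TT D k) {i : Fin l} (h1 : ch hp (sr i) z = 1) (P : SL(2, k)) :
    sl hp i P * z = z * sl hp i P := by
  have hs := simple_lt hp.inList (lt_rank hp i)
  have hm : ch hp (-sr i) z = 1 := by
    obtain ⟨φ, h0, hadd, hφ⟩ := chAddL hp M.toCoxeterSystem hk p z hz
    have h2 := hadd (sr i) (-sr i)
    rw [add_neg_cancel, h0, ← hφ _ (isRoot_sr _ _ i), h1, one_mul, ← hφ _ (isRoot_sr _ _ i).neg] at h2
    exact h2.symm
  have e1 : ((MulAut.conj z).toMonoidHom.comp (sl hp i)) = sl (K := k) hp i := by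
    refine hom_ext (fun a => ?_) (fun b => ?_)
    · show z * sl hp i (uu a) * z⁻¹ = sl hp i (uu a)
      have h6 := (act hp hs hz).2 a
      rw [vec_simple hp i, h1, one_mul] at h6
      rw [sl_uu]; exact h6
    · show z * sl hp i (vv b) * z⁻¹ = sl hp i (vv b)
      have h6 := (act hp (neg_lt hp.inList hs) hz).2 b
      rw [vec_neg hp hs, vec_simple hp i, hm, one_mul] at h6
      rw [sl_vv]; exact h6
  have h7 : z * sl hp i P * z⁻¹ = sl hp i P := DFunLike.congr_fun e1 P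
  exact (mul_inv_eq_iff_eq_mul.1 h7).symm

/-- **the step for a node** -/
theorem step_simple [IsAlgClosed k] (hp2 : Odd p) {w : M.Group} {n : ↥(D.group k)}
    (hn : Rp M.toCoxeterSystem (tow hp M.toCoxeterSystem hk p).nsys w n) (hnn : n * n = 1) {i : Fin l}
    (hi : wv hp.isCartan w (sr i) = -sr i) {Z : Set ↥(D.group k)} (hZ : Z ⊆ TT D k)
    (hZi : ∀ z ∈ Z, ch hp (sr i) z = 1) :
    ∃ g n', (∀ z ∈ Z, g * z = z * g) ∧
      Rp M.toCoxeterSystem (tow hp M.toCoxeterSystem hk p).nsys (M.toCoxeterSystem.simple i * w) n' ∧ n' * n' = 1 ∧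
      g * n * g⁻¹ = n' := by
  set H := tow hp M.toCoxeterSystem hk p with hH
  have h20 : (2 : k) ≠ 0 := by
    intro h
    have h1 : ((2 : ℕ) : k) = 0 := by exact_mod_cast h
    rw [CharP.cast_eq_zero_iff k p] at h1
    have h2 := (Nat.prime_dvd_prime_iff_eq (Fact.out : p.Prime) Nat.prime_two).1 h1
    rw [h2] at hp2
    exact (by decide : ¬ Odd 2) hp2
  have C : Coords M.toCoxeterSystem hp.isCartan (TL (Tj hp (k := k))) (nc hp k) (XX D l k) (xc hp) (ch hp) := by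
    rw [TL_eq hp hk]
    exact coordsL hp M.toCoxeterSystem hk p
  obtain ⟨c, hc0, e⟩ := rp_act C H.nsys hn (isRoot_sr M.toCoxeterSystem hp.isCartan i)
  obtain ⟨c', hc', e'⟩ := rp_act C H.nsys hn (isRoot_sr M.toCoxeterSystem hp.isCartan i).neg
  have hi' : rep M.toCoxeterSystem hp.isCartan w (sr i) = -sr i := hi
  rw [hi'] at e
  rw [map_neg, hi', neg_neg] at e'
  have hcc : c' * c = 1 := by
    have h1 := e' (c * 1)
    rw [← e 1] at h1
    have h2 : n * (n * xc hp (sr i) 1 * n⁻¹) * n⁻¹ = n * n * xc hp (sr i) 1 * (n * n)⁻¹ := by group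
    rw [h2, hnn, one_mul, inv_one, mul_one] at h1
    have hinj : Function.Injective (xc (K := k) hp (sr i)) := by
      rw [← vec_simple hp i]
      exact xc_inj hp (simple_lt hp.inList (lt_rank hp i))
    have h3 := hinj h1
    rw [mul_one] at h3
    exact h3.symm
  have hθ : ∀ g, n * sl hp i g * n⁻¹ = sl hp i (theta c hc0 g) := by
    refine conj_eq _ n hc0 (fun a => ?_) (fun b => ?_)
    · rw [sl_uu, sl_vv]; exact e a
    · rw [sl_uu, sl_vv, e']
      congr 1
      rw [eq_div_iff hc0, mul_assoc, mul_comm b c, ← mul_assoc, hcc, one_mul]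
  obtain ⟨y, hy⟩ := IsAlgClosed.exists_pow_nat_eq c (n := 2) (by norm_num)
  have hy0 : y ≠ 0 := by
    rintro rfl
    apply hc0
    rw [← hy]; ring
  obtain ⟨P, hP⟩ := exists_anti h20 hc0 hy.symm hy0
  have e1 : sl hp i P * n * (sl hp i P)⁻¹ = sl hp i (ww y⁻¹ (inv_ne_zero hy0)) * n := by
    have h3 : sl hp i P * n * (sl hp i P)⁻¹ = sl hp i P * (n * sl hp i P * n⁻¹)⁻¹ * n := by group
    rw [h3, hθ, ← map_inv, ← map_mul, hP]
  refine ⟨sl hp i P, _, fun z hz => comm_sl hp p hk (hZ hz) (hZi z hz) P, ?_, ?_, e1⟩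
  · refine Rp.mul ?_ hn
    rw [ww_eq_dd, map_mul, sl_ww, sl_dd]
    have h1 : hc hp i y⁻¹ ∈ TL (Tj hp (k := k)) := by
      rw [TL_eq hp hk]
      exact hc_mem hp i (inv_ne_zero hy0)
    have := (rp_of_mem (cs := M.toCoxeterSystem) (hN := H.nsys) h1).mul (rp_simple M.toCoxeterSystem H.nsys i)
    rwa [one_mul] at this
  · rw [← e1]
    have : sl hp i P * n * (sl hp i P)⁻¹ * (sl hp i P * n * (sl hp i P)⁻¹) =
      sl hp i P * (n * n) * (sl hp i P)⁻¹ := by group
    rw [this, hnn]; group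

/-- the negated roots -/
def Ng {h : IsCartan M (cartanOf D l)} (w : M.Group) : Set (Fin l → ℤ) := {b | rt' h b ∧ wv h w b = -b}

theorem conj_root (v : M.Group) (i : Fin l) (x : Fin l → ℤ) :
    wv hp.isCartan (v * M.toCoxeterSystem.simple i * v⁻¹) x =
      x - pairing (cartanOf D l) i (wv hp.isCartan v⁻¹ x) • wv hp.isCartan v (sr i) := by
  have h1 : wv hp.isCartan v (wv hp.isCartan v⁻¹ x) = x := by
    show rep M.toCoxeterSystem hp.isCartan v (rep M.toCoxeterSystem hp.isCartan v⁻¹ x) = x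
    rw [← rep_mul_apply, mul_inv_cancel, map_one, Module.End.one_apply]
  show rep M.toCoxeterSystem hp.isCartan (v * M.toCoxeterSystem.simple i * v⁻¹) x = _
  rw [rep_mul_apply, rep_mul_apply, rep_simple_eq, map_sub, map_smul]
  exact congrArg (· - _) h1

theorem finite_roots : {b : Fin l → ℤ | rt' hp.isCartan b}.Finite := by
  have hfW : Finite M.Group := finite_W hp M.toCoxeterSystem
  have : {b : Fin l → ℤ | rt' hp.isCartan b} =
      Set.range fun x : M.Group × Fin l => rep M.toCoxeterSystem hp.isCartan x.1 (sr x.2) := by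
    ext b
    constructor
    · rintro ⟨w, i, rfl⟩
      exact ⟨(w, i), rfl⟩
    · rintro ⟨⟨w, i⟩, rfl⟩
      exact ⟨w, i, rfl⟩
  rw [this]
  exact Set.finite_range _

theorem ncard_lt {w v : M.Group} {i : Fin l} (hw : w * w = 1)
    (hb : wv hp.isCartan w (wv hp.isCartan v (sr i)) = -wv hp.isCartan v (sr i)) :
    (Ng (h := hp.isCartan) (v * M.toCoxeterSystem.simple i * v⁻¹ * w)).ncard <
      (Ng (h := hp.isCartan) w).ncard := by
  set b := wv hp.isCartan v (sr i) with hbd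
  have hroot : rt' hp.isCartan b := ⟨v, i, rfl⟩
  have hb0 : b ≠ -b := by
    intro h
    have h1 : (2 : ℤ) • b = 0 := by
      rw [two_smul]; nth_rewrite 2 [h]; exact add_neg_cancel b
    have h2 : b = 0 := (smul_eq_zero.1 h1).resolve_left (by norm_num)
    exact hroot.ne_zero h2
  have hww : ∀ x, wv hp.isCartan w (wv hp.isCartan w x) = x := by
    intro x
    show rep M.toCoxeterSystem hp.isCartan w (rep M.toCoxeterSystem hp.isCartan w x) = x
    rw [← rep_mul_apply, hw, map_one, Module.End.one_apply]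
  have hmul : ∀ x, wv hp.isCartan (v * M.toCoxeterSystem.simple i * v⁻¹ * w) x =
      wv hp.isCartan (v * M.toCoxeterSystem.simple i * v⁻¹) (wv hp.isCartan w x) := fun x =>
    rep_mul_apply _ _ _ _ _
  refine Set.ncard_lt_ncard ⟨?_, fun hsub => ?_⟩ ((finite_roots hp).subset fun x hx => hx.1)
  · rintro c ⟨hc, e⟩
    refine ⟨hc, ?_⟩
    rw [hmul, conj_root hp, ← hbd] at e
    set m := pairing (cartanOf D l) i (wv hp.isCartan v⁻¹ (wv hp.isCartan w c)) with hm
    have e1 : wv hp.isCartan w c = -c + m • b := by rw [← e]; abel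
    have e2 := congrArg (wv hp.isCartan w) e1
    rw [hww] at e2
    have e3 : wv hp.isCartan w (-c + m • b) = -wv hp.isCartan w c + m • wv hp.isCartan w b := by
      show rep M.toCoxeterSystem hp.isCartan w (-c + m • b) = _
      rw [map_add, map_neg, map_smul]
    rw [e3, hb, e1] at e2
    have e4 : m • b = m • -b := by
      have : c = c - m • b + m • -b := by
        nth_rewrite 1 [e2]; abel
      have h5 : m • -b - m • b = 0 := by
        have h6 : c - m • b + m • -b - c = 0 := by rw [← this, sub_self]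
        rw [← h6]; abel
      exact (sub_eq_zero.1 h5).symm
    have hm0 : m = 0 := by
      by_contra hne
      have : b - -b = 0 := (smul_eq_zero.1 (by rw [smul_sub, ← e4, sub_self] : m • (b - -b) = 0)).resolve_left hne
      exact hb0 (sub_eq_zero.1 this)
    rw [e1, hm0, zero_smul, add_zero]
  · have h1 : b ∈ Ng (h := hp.isCartan) w := ⟨hroot, hb⟩
    obtain ⟨-, h2⟩ := hsub h1
    rw [hmul, hb] at h2
    have h3 : wv hp.isCartan (v * M.toCoxeterSystem.simple i * v⁻¹) (-b) = b := by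
      rw [conj_root hp]
      have h4 : wv hp.isCartan v⁻¹ (-b) = -sr i := by
        show rep M.toCoxeterSystem hp.isCartan v⁻¹ (-b) = -sr i
        rw [map_neg, hbd]
        show -rep M.toCoxeterSystem hp.isCartan v⁻¹ (rep M.toCoxeterSystem hp.isCartan v (sr i)) = -sr i
        rw [← rep_mul_apply, inv_mul_cancel, map_one, Module.End.one_apply]
      rw [h4]
      have h5 : pairing (cartanOf D l) i (-sr i) = -2 := by
        have h6 := rep_simple_eq M.toCoxeterSystem hp.isCartan i (-sr i)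
        rw [map_neg, rep_simple_sr, neg_neg] at h6
        have h7 := congrFun h6 i
        rw [Pi.sub_apply, Pi.smul_apply, Pi.neg_apply, sr_self, smul_eq_mul, mul_one] at h7
        omega
      rw [h5, ← hbd]
      have : (-2 : ℤ) • b = -b - b := by rw [neg_smul, two_smul]; abel
      rw [this]; abel
    rw [h3] at h2
    exact hb0 h2

theorem ch_conj {w : M.Group} {n : ↥(D.group k)}
    (hn : Rp M.toCoxeterSystem (tow hp M.toCoxeterSystem hk p).nsys w n) {b : Fin l → ℤ} (hb : rt' hp.isCartan b)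
    {z : ↥(D.group k)} (hz : z ∈ TT D k) :
    n * z * n⁻¹ ∈ TT D k ∧ ch hp (wv hp.isCartan w b) (n * z * n⁻¹) = ch hp b z := by
  have C : Coords M.toCoxeterSystem hp.isCartan (TL (Tj hp (k := k))) (nc hp k) (XX D l k) (xc hp) (ch hp) := by
    rw [TL_eq hp hk]
    exact coordsL hp M.toCoxeterSystem hk p
  have hz' : z ∈ TL (Tj hp (k := k)) := by rw [TL_eq hp hk]; exact hz
  refine ⟨?_, C.chi_rp _ hn hb hz'⟩
  have := (Subgroup.mem_normalizer_iff.1 hn.mem_normalizer z).1 hz'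
  rwa [TL_eq hp hk] at this

/-- **the step for a root** -/
theorem step_root [IsAlgClosed k] (hp2 : Odd p) {w : M.Group} {n : ↥(D.group k)}
    (hn : Rp M.toCoxeterSystem (tow hp M.toCoxeterSystem hk p).nsys w n) (hnn : n * n = 1) {v : M.Group} {i : Fin l}
    (hi : wv hp.isCartan w (wv hp.isCartan v (sr i)) = -wv hp.isCartan v (sr i)) {Z : Set ↥(D.group k)}
    (hZ : Z ⊆ TT D k) (hZi : ∀ z ∈ Z, ch hp (wv hp.isCartan v (sr i)) z = 1) :
    ∃ g n', (∀ z ∈ Z, g * z = z * g) ∧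
      Rp M.toCoxeterSystem (tow hp M.toCoxeterSystem hk p).nsys (v * M.toCoxeterSystem.simple i * v⁻¹ * w) n' ∧
      n' * n' = 1 ∧ g * n * g⁻¹ = n' := by
  obtain ⟨m, hm⟩ := exists_rp (cs := M.toCoxeterSystem) (hN := (tow hp M.toCoxeterSystem hk p).nsys) v
  have h1 : Rp M.toCoxeterSystem (tow hp M.toCoxeterSystem hk p).nsys (v⁻¹ * w * v) (m⁻¹ * n * m) :=
    (hm.inv.mul hn).mul hm
  have h2 : m⁻¹ * n * m * (m⁻¹ * n * m) = 1 := by
    have : m⁻¹ * n * m * (m⁻¹ * n * m) = m⁻¹ * (n * n) * m := by group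
    rw [this, hnn]; group
  have h3 : wv hp.isCartan (v⁻¹ * w * v) (sr i) = -sr i := by
    show rep M.toCoxeterSystem hp.isCartan (v⁻¹ * w * v) (sr i) = -sr i
    rw [rep_mul_apply, rep_mul_apply]
    have h4 : rep M.toCoxeterSystem hp.isCartan w (rep M.toCoxeterSystem hp.isCartan v (sr i)) =
      -rep M.toCoxeterSystem hp.isCartan v (sr i) := hi
    rw [h4, map_neg, ← rep_mul_apply, inv_mul_cancel, map_one, Module.End.one_apply]
  have hmi : ∀ z ∈ TT D k, m⁻¹ * z * m ∈ TT D k ∧ ch hp (sr i) (m⁻¹ * z * m) = ch hp (wv hp.isCartan v (sr i)) z := by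
    intro z hz
    have h5 := ch_conj hp p hk hm.inv (b := wv hp.isCartan v (sr i)) ⟨v, i, rfl⟩ hz
    rw [inv_inv] at h5
    have h6 : wv hp.isCartan v⁻¹ (wv hp.isCartan v (sr i)) = sr i := by
      show rep M.toCoxeterSystem hp.isCartan v⁻¹ (rep M.toCoxeterSystem hp.isCartan v (sr i)) = sr i
      rw [← rep_mul_apply, inv_mul_cancel, map_one, Module.End.one_apply]
    rw [h6] at h5
    exact h5
  obtain ⟨g, n', hg, hn', hnn', e⟩ := step_simple hp p hk hp2 h1 h2 h3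
    (Z := (fun z => m⁻¹ * z * m) '' Z) (by rintro _ ⟨z, hz, rfl⟩; exact (hmi z (hZ hz)).1)
    (by rintro _ ⟨z, hz, rfl⟩; rw [(hmi z (hZ hz)).2]; exact hZi z hz)
  refine ⟨m * g * m⁻¹, m * n' * m⁻¹, fun z hz => ?_, ?_, ?_, ?_⟩
  · have h5 := hg _ ⟨z, hz, rfl⟩
    have h6 : m * g * m⁻¹ * z = m * (g * (m⁻¹ * z * m)) * m⁻¹ := by group
    rw [h6, h5]; group
  · have h5 := (hm.mul hn').mul hm.inv
    have h6 : v * (M.toCoxeterSystem.simple i * (v⁻¹ * w * v)) * v⁻¹ = v * M.toCoxeterSystem.simple i * v⁻¹ * w := by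
      group
    rwa [h6] at h5
  · have h6 : m * n' * m⁻¹ * (m * n' * m⁻¹) = m * (n' * n') * m⁻¹ := by group
    rw [h6, hnn']; group
  · rw [← e]; group

/-- the conclusion of the reduction -/
def Goal (Z : Set ↥(D.group k)) (x : ↥(D.group k)) : Prop :=
  ∃ (g : ↥(D.group k)) (w : M.Group) (n : ↥(D.group k)), (∀ z ∈ Z, g * z * g⁻¹ ∈ TT D k) ∧
    Rp M.toCoxeterSystem (tow hp M.toCoxeterSystem hk p).nsys w n ∧ n * n = 1 ∧ g * x * g⁻¹ = n ∧ Res hp.isCartan w ∧
    ∀ b, rt' hp.isCartan b → wv hp.isCartan w b = -b → ∃ z ∈ Z, ch hp b (g * z * g⁻¹) ≠ 1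

theorem Goal.conj {Z : Set ↥(D.group k)} {x g : ↥(D.group k)}
    (h : Goal hp p hk ((fun z => g * z * g⁻¹) '' Z) (g * x * g⁻¹)) : Goal hp p hk Z x := by
  obtain ⟨g', w, n, h1, h2, h3, h4, h5, h6⟩ := h
  have e : ∀ z, g' * g * z * (g' * g)⁻¹ = g' * (g * z * g⁻¹) * g'⁻¹ := fun z => by group
  refine ⟨g' * g, w, n, fun z hz => ?_, h2, h3, ?_, h5, fun b hb hwb => ?_⟩
  · rw [e]; exact h1 _ ⟨z, hz, rfl⟩
  · rw [e]; exact h4
  · obtain ⟨_, ⟨z, hz, rfl⟩, h7⟩ := h6 b hb hwb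
    exact ⟨z, hz, by rw [e]; exact h7⟩

theorem eq_one_of_rp_one {w : M.Group} (h : Rp M.toCoxeterSystem (tow hp M.toCoxeterSystem hk p).nsys w 1) : w = 1 := by
  have hfW : Finite M.Group := finite_W hp M.toCoxeterSystem
  obtain ⟨j, hj⟩ := (tow hp M.toCoxeterSystem hk p).rp_down h
  exact ((tow hp M.toCoxeterSystem hk p).rgd j).eq_one_of_mem_B hj (one_mem _)

/-- no negated root is trivial on `Z`: down to the shape `w_J` -/
theorem goal_of_res (N : ℕ) : ∀ (w : M.Group), M.toCoxeterSystem.length w = N → ∀ (n : ↥(D.group k)),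
    Rp M.toCoxeterSystem (tow hp M.toCoxeterSystem hk p).nsys w n → n * n = 1 →
    ∀ Z : Set ↥(D.group k), Z ⊆ TT D k → (∀ b, rt' hp.isCartan b → wv hp.isCartan w b = -b → ∃ z ∈ Z, ch hp b z ≠ 1) →
    Goal hp p hk Z n := by
  induction N using Nat.strong_induction_on with
  | _ N ih =>
  intro w hwN n hn hnn Z hZ hres
  have hww : w * w = 1 := by
    have h1 := hn.mul hn
    rw [hnn] at h1
    exact eq_one_of_rp_one hp p hk h1
  by_cases h2 : ∃ i, wv hp.isCartan w (sr i) ≤ 0 ∧ wv hp.isCartan w (sr i) ≠ -sr i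
  · obtain ⟨i, hi, hne⟩ := h2
    have hni : Rp M.toCoxeterSystem (tow hp M.toCoxeterSystem hk p).nsys (M.toCoxeterSystem.simple i) (nc hp k i) :=
      rp_simple M.toCoxeterSystem _ i
    have h3 : Rp M.toCoxeterSystem (tow hp M.toCoxeterSystem hk p).nsys
        (M.toCoxeterSystem.simple i * w * M.toCoxeterSystem.simple i) (nc hp k i * n * (nc hp k i)⁻¹) := by
      have := (hni.mul hn).mul hni.inv
      rwa [M.toCoxeterSystem.inv_simple] at this
    refine Goal.conj hp p hk (g := nc hp k i) (ih _ (hwN ▸ length_conj_lt hww hi hne) _ rfl _ h3 ?_ _ ?_ ?_)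
    · have : nc hp k i * n * (nc hp k i)⁻¹ * (nc hp k i * n * (nc hp k i)⁻¹) =
        nc hp k i * (n * n) * (nc hp k i)⁻¹ := by group
      rw [this, hnn]; group
    · rintro _ ⟨z, hz, rfl⟩
      exact (ch_conj hp p hk hni (isRoot_sr _ _ i) (hZ hz)).1
    · intro b hb hwb
      have hsb : rt' hp.isCartan (wv hp.isCartan (M.toCoxeterSystem.simple i) b) := hb.act _
      have hss : ∀ x, wv hp.isCartan (M.toCoxeterSystem.simple i) (wv hp.isCartan (M.toCoxeterSystem.simple i) x) = x := by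
        intro x
        show rep M.toCoxeterSystem hp.isCartan _ (rep M.toCoxeterSystem hp.isCartan _ x) = x
        rw [← rep_mul_apply, M.toCoxeterSystem.simple_mul_simple_self, map_one, Module.End.one_apply]
      obtain ⟨z, hz, h4⟩ := hres _ hsb (by
        have h5 : wv hp.isCartan (M.toCoxeterSystem.simple i) (wv hp.isCartan w
            (wv hp.isCartan (M.toCoxeterSystem.simple i) b)) = -b := by
          rw [← hwb]
          show rep M.toCoxeterSystem hp.isCartan _ (rep M.toCoxeterSystem hp.isCartan _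
            (rep M.toCoxeterSystem hp.isCartan _ b)) = rep M.toCoxeterSystem hp.isCartan _ b
          rw [← rep_mul_apply, ← rep_mul_apply, mul_assoc]
        have h6 := congrArg (wv hp.isCartan (M.toCoxeterSystem.simple i)) h5
        rw [hss] at h6
        rw [h6]
        exact map_neg (rep M.toCoxeterSystem hp.isCartan (M.toCoxeterSystem.simple i)) b)
      refine ⟨_, ⟨z, hz, rfl⟩, ?_⟩
      have h5 := (ch_conj hp p hk hni hsb (hZ hz)).2
      rw [hss] at h5
      show ch hp b (nc hp k i * z * (nc hp k i)⁻¹) ≠ 1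
      rw [h5]; exact h4
  push Not at h2
  refine ⟨1, w, n, fun z hz => ?_, hn, hnn, by group, ⟨hww, h2⟩, fun b hb hwb => ?_⟩
  · rw [one_mul, inv_one, mul_one]; exact hZ hz
  · obtain ⟨z, hz, h4⟩ := hres b hb hwb
    exact ⟨z, hz, by rw [one_mul, inv_one, mul_one]; exact h4⟩

theorem goal_of_rp [IsAlgClosed k] (hp2 : Odd p) (N : ℕ) : ∀ (w : M.Group), (Ng (h := hp.isCartan) w).ncard = N →
    ∀ (n : ↥(D.group k)), Rp M.toCoxeterSystem (tow hp M.toCoxeterSystem hk p).nsys w n → n * n = 1 →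
    ∀ Z : Set ↥(D.group k), Z ⊆ TT D k → (∀ z ∈ Z, n * z = z * n) → Goal hp p hk Z n := by
  induction N using Nat.strong_induction_on with
  | _ N ih =>
  intro w hwN n hn hnn Z hZ hc
  have hww : w * w = 1 := by
    have h1 := hn.mul hn
    rw [hnn] at h1
    exact eq_one_of_rp_one hp p hk h1
  by_cases hres : ∀ b, rt' hp.isCartan b → wv hp.isCartan w b = -b → ∃ z ∈ Z, ch hp b z ≠ 1
  · exact goal_of_res hp p hk _ w rfl n hn hnn Z hZ hres
  push Not at hres
  obtain ⟨b, ⟨v, i, hb'⟩, hwb, hbZ⟩ := hres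
  have hb : b = wv hp.isCartan v (sr i) := hb'
  obtain ⟨g, n', hg, hn', hnn', e⟩ := step_root hp p hk hp2 hn hnn (v := v) (i := i)
    (by rw [← hb]; exact hwb) hZ (by rw [← hb]; exact hbZ)
  have hlt := ncard_lt hp (v := v) (i := i) hww (by rw [← hb]; exact hwb)
  have hZ' : (fun z => g * z * g⁻¹) '' Z = Z := by
    ext z
    constructor
    · rintro ⟨z, hz, rfl⟩
      show g * z * g⁻¹ ∈ Z
      rw [hg z hz, mul_inv_cancel_right]; exact hz
    · intro hz
      exact ⟨z, hz, by show g * z * g⁻¹ = z; rw [hg z hz, mul_inv_cancel_right]⟩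
  refine Goal.conj hp p hk (g := g) ?_
  rw [hZ', e]
  refine ih _ (hwN ▸ hlt) _ rfl n' hn' hnn' Z hZ fun z hz => ?_
  rw [← e]
  have h1 : g⁻¹ * z = z * g⁻¹ := by
    rw [inv_mul_eq_iff_eq_mul, ← mul_assoc, hg z hz, mul_inv_cancel_right]
  calc g * n * g⁻¹ * z = g * n * (g⁻¹ * z) := by group
    _ = g * (n * z) * g⁻¹ := by rw [h1]; group
    _ = (g * z) * n * g⁻¹ := by rw [hc z hz]; group
    _ = z * (g * n * g⁻¹) := by rw [hg z hz]; group

/-- **the reduction**: an involution `x` commuting with the finite subset `Z` of the torus. -/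
theorem red [IsAlgClosed k] (hp2 : p ≠ 2) {Z : Set ↥(D.group k)} (hZf : Z.Finite) (hZ : Z ⊆ TT D k)
    {x : ↥(D.group k)} (hx : x * x = 1) (hc : ∀ z ∈ Z, x * z = z * x) :
    ∃ (g : ↥(D.group k)) (w : M.Group) (n : ↥(D.group k)), (∀ z ∈ Z, g * z * g⁻¹ ∈ TT D k) ∧
      Rp M.toCoxeterSystem (tow hp M.toCoxeterSystem hk p).nsys w n ∧ n * n = 1 ∧ g * x * g⁻¹ = n ∧
      Res hp.isCartan w ∧ ∀ b, rt' hp.isCartan b → wv hp.isCartan w b = -b → ∃ z ∈ Z, ch hp b (g * z * g⁻¹) ≠ 1 := by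
  have hodd : Odd p := (Fact.out : p.Prime).odd_of_ne_two hp2
  obtain ⟨g, w, n, hg, hn, hnn, e⟩ := exists_NZ hp p hk hodd hZf hZ hx hc
  have hZ' : (fun z => g * z * g⁻¹) '' Z = Z := by
    ext z
    constructor
    · rintro ⟨z, hz, rfl⟩
      show g * z * g⁻¹ ∈ Z
      rw [hg z hz, mul_inv_cancel_right]; exact hz
    · intro hz
      exact ⟨z, hz, by show g * z * g⁻¹ = z; rw [hg z hz, mul_inv_cancel_right]⟩
  refine Goal.conj hp p hk (g := g) ?_
  rw [hZ', e]
  refine goal_of_rp hp p hk hodd _ w rfl n hn hnn Z hZ fun z hz => ?_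
  rw [← e]
  have h1 : g⁻¹ * z = z * g⁻¹ := by
    rw [inv_mul_eq_iff_eq_mul, ← mul_assoc, hg z hz, mul_inv_cancel_right]
  calc g * x * g⁻¹ * z = g * x * (g⁻¹ * z) := by group
    _ = g * (x * z) * g⁻¹ := by rw [h1]; group
    _ = (g * z) * x * g⁻¹ := by rw [hc z hz]; group
    _ = z * (g * x * g⁻¹) := by rw [hg z hz]; group

include hp hk in
/-- **an involution is toral** over `k` -/
theorem toral_one [IsAlgClosed k] (hp2 : p ≠ 2) {x : ↥(D.group k)} (hx : x * x = 1) : ∃ g, g * x * g⁻¹ ∈ TT D k := by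
  obtain ⟨g, w, n, -, hn, -, e, hres, hb⟩ := red hp p hk hp2 Set.finite_empty (Set.empty_subset _) hx
    (fun z hz => absurd hz (Set.notMem_empty z))
  have hw : w = 1 := by
    by_contra hw
    obtain ⟨i, hi⟩ := exists_neg_simple (cs := M.toCoxeterSystem) (h := hp.isCartan) hw
    obtain ⟨z, hz, -⟩ := hb (sr i) (isRoot_sr _ _ i) (hres.neg i hi)
    exact Set.notMem_empty z hz
  subst hw
  refine ⟨g, ?_⟩
  rw [e]
  have := hn.mem_of_one
  rwa [TL_eq hp hk] at this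

end K

end Cfsg.Agent.H167.KKL
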