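import Cfsg.Agent.H167.KKL.Red

/-!
# S4546: the sign vector of an involution of the torus
-/

set_option autoImplicit false
set_option linter.unusedSectionVars false

namespace Cfsg.Agent.H167.KKL

open CoxeterSystem Cfsg Cfsg.Lie Cfsg.Lie.ChevalleyDatum
open Cfsg.Agent.ChevalleyStructure Cfsg.Agent.ChevalleyStructure.Elts Cfsg.Agent.ChevalleyStructure.CoxeterGeom
  Cfsg.Agent.ChevalleyStructure.CoxeterGeomTypes Cfsg.Agent.ChevalleyStructure.NPerm
open Cfsg.Agent.Tits.Roots Cfsg.Agent.Tits.Core Cfsg.Agent.Nodes Cfsg.Agent.Nodes.Reps Cfsg.Agent.Nodes.BNOf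
  Cfsg.Agent.Nodes.RGDChev Cfsg.Agent.Nodes.Bruhat Cfsg.Agent.Nodes.NormalForm
open Cfsg.Agent.KFacts.RgdField Cfsg.Agent.KFacts.RgdChevCoord
open Cfsg.Agent.BpExc Cfsg.Agent.BpExc.TorCent Cfsg.Agent.BpExc.TorChev Cfsg.Agent.BpExc.Tow
  Cfsg.Agent.BpExc.TowChev

universe u v

variable {D : ChevalleyDatum} {l : ℕ} {M : CoxeterMatrix (Fin l)} (hp : IsType D l M) {k : Type u} [Field k]
  (p : ℕ) [Fact p.Prime] [CharP k p] (hk : LocFin k)

theorem two_ne (hp2 : p ≠ 2) : (2 : k) ≠ 0 := by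
  intro h
  have h1 : ((2 : ℕ) : k) = 0 := by exact_mod_cast h
  rw [CharP.cast_eq_zero_iff k p] at h1
  exact hp2 ((Nat.prime_dvd_prime_iff_eq (Fact.out : p.Prime) Nat.prime_two).1 h1)

/-- `(-1)^x` -/
def sg (x : ZMod 2) : k := if x = 0 then 1 else -1

theorem sg_add (x y : ZMod 2) : (sg (x + y) : k) = sg x * sg y := by
  unfold sg
  have h : ∀ x : ZMod 2, x = 0 ∨ x = 1 := by decide
  have h11 : (1 : ZMod 2) + 1 = 0 := by decide
  have h10 : (1 : ZMod 2) ≠ 0 := by decide
  rcases h x with rfl | rfl <;> rcases h y with rfl | rfl <;> simp [h11]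

theorem sg_eq_one (h2 : (2 : k) ≠ 0) (x : ZMod 2) : (sg x : k) = 1 ↔ x = 0 := by
  unfold sg
  split_ifs with h
  · exact ⟨fun _ => h, fun _ => rfl⟩
  · refine ⟨fun h3 => absurd ?_ h2, fun h3 => absurd h3 h⟩
    have : (1 : k) + 1 = 1 + -1 := by rw [h3]
    rw [add_neg_cancel] at this
    rw [← this]; norm_num

include hk p in
/-- **the sign vector** of an involution of the torus -/
theorem exists_sgn {z : ↥(D.group k)} (hz : z ∈ TT D k) (hzz : z * z = 1) :
    ∃ f : (Fin l → ℤ) →+ ZMod 2, ∀ b, rt' hp.isCartan b → ch hp b z = sg (f b) := by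
  obtain ⟨φ, h0, hadd, hφ⟩ := chAddL hp M.toCoxeterSystem hk p z hz
  have h1 : ∀ i, φ (sr i) = 1 ∨ φ (sr i) = -1 := by
    intro i
    have hs := simple_lt hp.inList (lt_rank hp i)
    have h2 := (act hp hs hz).2
    rw [vec_simple hp i] at h2
    have h3 : xc hp (sr i) (ch hp (sr i) z * (ch hp (sr i) z * 1)) = xc hp (sr i) 1 := by
      rw [← h2, ← h2]
      have : z * (z * xc hp (sr i) 1 * z⁻¹) * z⁻¹ = z * z * xc hp (sr i) 1 * (z * z)⁻¹ := by group
      rw [this, hzz]; group
    have hinj : Function.Injective (xc (K := k) hp (sr i)) := by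
      rw [← vec_simple hp i]
      exact xc_inj hp hs
    have h4 := hinj h3
    rw [mul_one] at h4
    rw [← hφ _ (isRoot_sr _ _ i)]
    exact mul_self_eq_one_iff.1 h4
  classical
  let e : Fin l → ZMod 2 := fun i => if φ (sr i) = 1 then 0 else 1
  let f : (Fin l → ℤ) →+ ZMod 2 :=
    { toFun := fun x => ∑ i, (x i : ZMod 2) * e i
      map_zero' := by simp
      map_add' := fun x y => by
        rw [← Finset.sum_add_distrib]
        exact Finset.sum_congr rfl fun i _ => by rw [Pi.add_apply, Int.cast_add, add_mul] }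
  refine ⟨f, fun b hb => ?_⟩
  rw [hφ b hb]
  let A1 : (Fin l → ℤ) →+ Additive k :=
    { toFun := fun x => Additive.ofMul (φ x)
      map_zero' := h0
      map_add' := fun x y => hadd x y }
  let A2 : (Fin l → ℤ) →+ Additive k :=
    { toFun := fun x => Additive.ofMul (sg (f x))
      map_zero' := by
        show (sg (f 0) : k) = 1
        rw [map_zero]; rfl
      map_add' := fun x y => by
        show (sg (f (x + y)) : k) = sg (f x) * sg (f y)
        rw [map_add, sg_add] }
  have h5 : A1 = A2 := by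
    refine AddMonoidHom.functions_ext' _ _ _ fun i => AddMonoidHom.ext_int ?_
    show φ (Pi.single i 1) = sg (f (Pi.single i 1))
    have h6 : f (Pi.single i 1) = e i := by
      show ∑ j, ((Pi.single i 1 : Fin l → ℤ) j : ZMod 2) * e j = e i
      rw [Finset.sum_eq_single i]
      · rw [Pi.single_eq_same]; simp
      · intro j _ hj
        rw [Pi.single_eq_of_ne hj]; simp
      · intro h; exact absurd (Finset.mem_univ i) h
    rw [h6]
    show φ (sr i) = sg (if φ (sr i) = 1 then 0 else 1)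
    rcases h1 i with h7 | h7
    · rw [if_pos h7, h7]; rfl
    · split_ifs with h8
      · rw [h8]; rfl
      · rw [h7]; rfl
  exact congrArg (fun A : (Fin l → ℤ) →+ Additive k => Additive.toMul (A b)) h5

include hk p in
theorem sgn_eq (hp2 : p ≠ 2) {w : M.Group} {n : ↥(D.group k)}
    (hn : Rp M.toCoxeterSystem (tow hp M.toCoxeterSystem hk p).nsys w n) {z : ↥(D.group k)} (hz : z ∈ TT D k)
    (hc : n * z = z * n) {f : (Fin l → ℤ) →+ ZMod 2} (hf : ∀ b, rt' hp.isCartan b → ch hp b z = sg (f b))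
    (x : Fin l → ℤ) : f (wv hp.isCartan w x) = f x := by
  have h2 := two_ne (k := k) p hp2
  have h1 : ∀ i, f (wv hp.isCartan w (sr i)) = f (sr i) := by
    intro i
    have h3 := (ch_conj hp p hk hn (isRoot_sr _ _ i) hz).2
    rw [hc, mul_inv_cancel_right, hf _ ((isRoot_sr _ _ i).act w), hf _ (isRoot_sr _ _ i)] at h3
    have h4 := sg_eq_one (k := k) h2 (f (wv hp.isCartan w (sr i)))
    have h5 := sg_eq_one (k := k) h2 (f (sr i))
    rw [h3, h5] at h4
    have h6 : ∀ x y : ZMod 2, (x = 0 ↔ y = 0) → y = x := by decide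
    exact h6 _ _ h4
  have h7 : f.comp (rep M.toCoxeterSystem hp.isCartan w).toAddMonoidHom = f := by
    refine AddMonoidHom.functions_ext' _ _ _ fun i => AddMonoidHom.ext_int ?_
    exact h1 i
  exact congrArg (fun A : (Fin l → ℤ) →+ ZMod 2 => A x) h7

theorem trL_conj (g x : ↥(D.group k)) : trL D (g * x * g⁻¹) = trL D x := by
  unfold trL
  rw [Subgroup.coe_mul, Subgroup.coe_mul, Subgroup.coe_inv, Units.val_mul, Units.val_mul]
  exact Matrix.trace_units_conj (g : GL D.Idx k) _

end Cfsg.Agent.H167.KKL
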